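import Cfsg.Agent.H94.RU.Defs

/-! Kernel evaluation. -/

namespace H94.RU

open D H94.J3

set_option maxRecDepth 100000

theorem aa_0 : allIn 0 256 aChk = true := by decide +kernel
theorem aa_256 : allIn 256 256 aChk = true := by decide +kernel
theorem aa_512 : allIn 512 256 aChk = true := by decide +kernel
theorem aa_768 : allIn 768 256 aChk = true := by decide +kernel
theorem aa_1024 : allIn 1024 256 aChk = true := by decide +kernel
theorem aa_1280 : allIn 1280 256 aChk = true := by decide +kernel
theorem aa_1536 : allIn 1536 219 aChk = true := by decide +kernel

end H94.RU
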