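import Cfsg.Agent.H94.RU.Defs

/-! Kernel evaluation. -/

namespace H94.RU

open D H94.J3

set_option maxRecDepth 100000

theorem uu_3072 : allIn 3072 256 uChk = true := by decide +kernel
theorem uu_3328 : allIn 3328 256 uChk = true := by decide +kernel
theorem uu_3584 : allIn 3584 256 uChk = true := by decide +kernel
theorem uu_3840 : allIn 3840 220 uChk = true := by decide +kernel

end H94.RU
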