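import Cfsg.Agent.H94.RU.Defs

/-! Kernel evaluation. -/

namespace H94.RU

open D H94.J3

set_option maxRecDepth 100000

theorem vv_0 : allIn 0 256 vChk = true := by decide +kernel
theorem vv_256 : allIn 256 256 vChk = true := by decide +kernel
theorem vv_512 : allIn 512 256 vChk = true := by decide +kernel
theorem vv_768 : allIn 768 207 vChk = true := by decide +kernel

end H94.RU
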