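import Cfsg.Agent.H94.RU.Chk.Uu0
import Cfsg.Agent.H94.RU.Chk.Uu1
import Cfsg.Agent.H94.RU.Chk.Uu2
import Cfsg.Agent.H94.RU.Chk.Uu3
import Cfsg.Agent.H94.RU.Chk.Ww0
import Cfsg.Agent.H94.RU.Chk.Ww1
import Cfsg.Agent.H94.RU.Chk.Ww2
import Cfsg.Agent.H94.RU.Chk.Vv0
import Cfsg.Agent.H94.RU.Chk.Nt0
import Cfsg.Agent.H94.RU.Chk.Nt1
import Cfsg.Agent.H94.RU.Chk.Aa0

/-! All certificate checks. -/

namespace H94.RU

open D H94.J3

set_option maxRecDepth 100000

theorem uu_spec (i : ℕ) (hi : i < 4060) : uChk i = true := by
  by_cases h0 : i < 256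
  · exact allIn_spec uu_0 (by omega) (by omega)
  by_cases h256 : i < 512
  · exact allIn_spec uu_256 (by omega) (by omega)
  by_cases h512 : i < 768
  · exact allIn_spec uu_512 (by omega) (by omega)
  by_cases h768 : i < 1024
  · exact allIn_spec uu_768 (by omega) (by omega)
  by_cases h1024 : i < 1280
  · exact allIn_spec uu_1024 (by omega) (by omega)
  by_cases h1280 : i < 1536
  · exact allIn_spec uu_1280 (by omega) (by omega)
  by_cases h1536 : i < 1792
  · exact allIn_spec uu_1536 (by omega) (by omega)
  by_cases h1792 : i < 2048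
  · exact allIn_spec uu_1792 (by omega) (by omega)
  by_cases h2048 : i < 2304
  · exact allIn_spec uu_2048 (by omega) (by omega)
  by_cases h2304 : i < 2560
  · exact allIn_spec uu_2304 (by omega) (by omega)
  by_cases h2560 : i < 2816
  · exact allIn_spec uu_2560 (by omega) (by omega)
  by_cases h2816 : i < 3072
  · exact allIn_spec uu_2816 (by omega) (by omega)
  by_cases h3072 : i < 3328
  · exact allIn_spec uu_3072 (by omega) (by omega)
  by_cases h3328 : i < 3584
  · exact allIn_spec uu_3328 (by omega) (by omega)
  by_cases h3584 : i < 3840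
  · exact allIn_spec uu_3584 (by omega) (by omega)
  by_cases h3840 : i < 4060
  · exact allIn_spec uu_3840 (by omega) (by omega)
  omega

theorem ww_spec (i : ℕ) (hi : i < 2304) : wChk i = true := by
  by_cases h0 : i < 256
  · exact allIn_spec ww_0 (by omega) (by omega)
  by_cases h256 : i < 512
  · exact allIn_spec ww_256 (by omega) (by omega)
  by_cases h512 : i < 768
  · exact allIn_spec ww_512 (by omega) (by omega)
  by_cases h768 : i < 1024
  · exact allIn_spec ww_768 (by omega) (by omega)
  by_cases h1024 : i < 1280
  · exact allIn_spec ww_1024 (by omega) (by omega)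
  by_cases h1280 : i < 1536
  · exact allIn_spec ww_1280 (by omega) (by omega)
  by_cases h1536 : i < 1792
  · exact allIn_spec ww_1536 (by omega) (by omega)
  by_cases h1792 : i < 2048
  · exact allIn_spec ww_1792 (by omega) (by omega)
  by_cases h2048 : i < 2304
  · exact allIn_spec ww_2048 (by omega) (by omega)
  omega

theorem vv_spec (i : ℕ) (hi : i < 975) : vChk i = true := by
  by_cases h0 : i < 256
  · exact allIn_spec vv_0 (by omega) (by omega)
  by_cases h256 : i < 512
  · exact allIn_spec vv_256 (by omega) (by omega)
  by_cases h512 : i < 768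
  · exact allIn_spec vv_512 (by omega) (by omega)
  by_cases h768 : i < 975
  · exact allIn_spec vv_768 (by omega) (by omega)
  omega

theorem nt_spec (i : ℕ) (hi : i < 7800) : notTChk i = true := by
  by_cases h0 : i < 1300
  · exact allIn_spec nt_0 (by omega) (by omega)
  by_cases h1300 : i < 2600
  · exact allIn_spec nt_1300 (by omega) (by omega)
  by_cases h2600 : i < 3900
  · exact allIn_spec nt_2600 (by omega) (by omega)
  by_cases h3900 : i < 5200
  · exact allIn_spec nt_3900 (by omega) (by omega)
  by_cases h5200 : i < 6500
  · exact allIn_spec nt_5200 (by omega) (by omega)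
  by_cases h6500 : i < 7800
  · exact allIn_spec nt_6500 (by omega) (by omega)
  omega

theorem aa_spec (i : ℕ) (hi : i < 1755) : aChk i = true := by
  by_cases h0 : i < 256
  · exact allIn_spec aa_0 (by omega) (by omega)
  by_cases h256 : i < 512
  · exact allIn_spec aa_256 (by omega) (by omega)
  by_cases h512 : i < 768
  · exact allIn_spec aa_512 (by omega) (by omega)
  by_cases h768 : i < 1024
  · exact allIn_spec aa_768 (by omega) (by omega)
  by_cases h1024 : i < 1280
  · exact allIn_spec aa_1024 (by omega) (by omega)
  by_cases h1280 : i < 1536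
  · exact allIn_spec aa_1280 (by omega) (by omega)
  by_cases h1536 : i < 1755
  · exact allIn_spec aa_1536 (by omega) (by omega)
  omega

theorem k_ok : kChk = true := by decide +kernel
theorem gen_ok : genChk = true := by decide +kernel
theorem elem_ok : elemChk = true := by decide +kernel
theorem span_ok : spanChk = true := by decide +kernel
theorem subG_ok : allIn 0 4060 (subChk 4060 2 3 gG Pt labG.get depG.get phG.get repG) = true := by decide +kernel
theorem subQ_ok : allIn 0 2304 (subChk 2304 2 7 gQ Qt labQ.get depQ.get phQ.get repQ) = true := by decide +kernel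
theorem subA_ok : allIn 0 1755 (subChk 1755 2 5 gA Apt labA.get depA.get phA.get repA) = true := by decide +kernel
theorem sizeG_ok : sizeChk 4060 3 labG.get sizeG = true := by decide +kernel
theorem sizeQ_ok : sizeChk 2304 7 labQ.get sizeQ = true := by decide +kernel
theorem sizeA_ok : sizeChk 1755 5 labA.get sizeA = true := by decide +kernel
theorem sumsG_ok : sumsChk 4060 3 sizeG = true := by decide +kernel
theorem sumsQ_ok : sumsChk 2304 7 sizeQ = true := by decide +kernel
theorem sumsA_ok : sumsChk 1755 5 sizeA = true := by decide +kernel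

end H94.RU
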